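import Cfsg.Agent.Lib.Helper5.BalSp.Main
import Cfsg.Agent.Lib.Helper7.BalU.UE

/-!
# Involutions of symplectic type of `PSU_n`: the symplectic group over the subfield (helper5)

The hypotheses of helper7's frame theorem for `S₀ = Sp_{2m}(F₀)` inside `GL_n(F₀)`: it is normalised
by the similitudes, rigid, and has no non-central normal subgroup of odd order modulo scalars.
-/

set_option autoImplicit false

namespace Cfsg.Agent.Lib.Helper5.BalSpU

open Matrix Cfsg Cfsg.Agent.AutPSLCount Cfsg.Agent.Lib.Helper8.BalL Cfsg.Agent.Lib.Helper8.GrInv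
open Cfsg.Agent.Lib.Helper5.BalSp

universe u v

variable {F₀ : Type u} [Field F₀] {F : Type v} [Field F] {n m : ℕ} (r : Fin n ≃ Fin m ⊕ Fin m)

/-- the embedding of `Sp_{2m}(F₀)` in `GL_n(F₀)` -/
def fSp : ↥(Matrix.symplecticGroup (Fin m) F₀) →* GL (Fin n) F₀ :=
  (SpecialLinearGroup.toGL).comp (subSp r)

theorem fSp_val (s : ↥(Matrix.symplecticGroup (Fin m) F₀)) :
    (fSp r s).val = s.val.submatrix r r := rfl

/-- `Sp_{2m}(F₀)` inside `GL_n(F₀)` -/
def SpG : Subgroup (GL (Fin n) F₀) := (fSp (F₀ := F₀) r).range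

theorem fSp_mem (s : ↥(Matrix.symplecticGroup (Fin m) F₀)) : fSp r s ∈ SpG (F₀ := F₀) r :=
  ⟨s, rfl⟩

theorem SpG_det (g : GL (Fin n) F₀) (hg : g ∈ SpG r) : g.val.det = 1 := by
  obtain ⟨s, rfl⟩ := hg
  exact (subSp r s).2

/-- the transposed form of the isometry condition -/
theorem form_of_mem_SpG (g : GL (Fin n) F₀) (hg : g ∈ SpG r) :
    g.valᵀ * (A1 (F := F₀) r).val * g.val = (A1 (F := F₀) r).val := by
  obtain ⟨s, rfl⟩ := hg
  rw [fSp_val, A1_val, Matrix.transpose_submatrix, Matrix.submatrix_mul_equiv,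
    Matrix.submatrix_mul_equiv]
  congr 1
  exact (SymplecticGroup.mem_iff').1 s.2

theorem mem_SpG_of_form (g : GL (Fin n) F₀)
    (hg : g.valᵀ * (A1 (F := F₀) r).val * g.val = (A1 (F := F₀) r).val) : g ∈ SpG r := by
  have hJ : (A1 (F := F₀) r).val.submatrix r.symm r.symm = Matrix.J (Fin m) F₀ := by
    rw [A1_val]
    ext i j
    simp
  refine ⟨⟨g.val.submatrix r.symm r.symm, ?_⟩, ?_⟩
  · rw [SymplecticGroup.mem_iff', ← hJ, Matrix.transpose_submatrix,
      Matrix.submatrix_mul_equiv, Matrix.submatrix_mul_equiv, hg]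
  · apply Units.ext
    rw [fSp_val]
    ext i j
    simp

/-- the similitudes normalise the symplectic group -/
theorem sim_normalizes (m₀ : GL (Fin n) F₀) (μ₀ : F₀) (hμ : μ₀ ≠ 0)
    (hm : m₀.valᵀ * (A1 (F := F₀) r).val * m₀.val = μ₀ • (A1 (F := F₀) r).val)
    (s : GL (Fin n) F₀) (hs : s ∈ SpG r) : m₀ * s * m₀⁻¹ ∈ SpG r := by
  apply mem_SpG_of_form
  have hs' := form_of_mem_SpG r s hs
  have h1 : m₀.val * m₀⁻¹.val = 1 := by rw [← Units.val_mul, mul_inv_cancel, Units.val_one]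
  have h1' : m₀⁻¹.valᵀ * m₀.valᵀ = 1 := by
    rw [← Matrix.transpose_mul, h1, Matrix.transpose_one]
  -- `m₀⁻ᵀ J m₀⁻¹ = μ₀⁻¹ J`
  have h3 : m₀⁻¹.valᵀ * (A1 (F := F₀) r).val * m₀⁻¹.val = μ₀⁻¹ • (A1 (F := F₀) r).val := by
    have e : m₀⁻¹.valᵀ * (m₀.valᵀ * (A1 (F := F₀) r).val * m₀.val) * m₀⁻¹.val =
        (A1 (F := F₀) r).val := by
      calc m₀⁻¹.valᵀ * (m₀.valᵀ * (A1 (F := F₀) r).val * m₀.val) * m₀⁻¹.val
          = (m₀⁻¹.valᵀ * m₀.valᵀ) * (A1 (F := F₀) r).val * (m₀.val * m₀⁻¹.val) := by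
            simp only [Matrix.mul_assoc]
        _ = (A1 (F := F₀) r).val := by rw [h1, h1', Matrix.one_mul, Matrix.mul_one]
    rw [hm, Matrix.mul_smul, Matrix.smul_mul] at e
    calc m₀⁻¹.valᵀ * (A1 (F := F₀) r).val * m₀⁻¹.val
        = μ₀⁻¹ • (μ₀ • (m₀⁻¹.valᵀ * (A1 (F := F₀) r).val * m₀⁻¹.val)) := by
          rw [smul_smul, inv_mul_cancel₀ hμ, one_smul]
      _ = μ₀⁻¹ • (A1 (F := F₀) r).val := by rw [e]
  rw [Units.val_mul, Units.val_mul, Matrix.transpose_mul, Matrix.transpose_mul]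
  calc m₀⁻¹.valᵀ * (s.valᵀ * m₀.valᵀ) * (A1 (F := F₀) r).val * (m₀.val * s.val * m₀⁻¹.val)
      = m₀⁻¹.valᵀ * (s.valᵀ * (m₀.valᵀ * (A1 (F := F₀) r).val * m₀.val) * s.val) * m₀⁻¹.val := by
        simp only [Matrix.mul_assoc]
    _ = μ₀ • (m₀⁻¹.valᵀ * (s.valᵀ * (A1 (F := F₀) r).val * s.val) * m₀⁻¹.val) := by
        rw [hm, Matrix.mul_smul, Matrix.smul_mul, Matrix.mul_smul, Matrix.smul_mul]
    _ = (A1 (F := F₀) r).val := by
        rw [hs', h3, smul_smul, mul_inv_cancel₀ hμ, one_smul]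

/-! ### rigidity -/

theorem map_single_add' (ι : F₀ →+* F) (i j : Fin n) (t : F₀) :
    (fun k => ι ((Pi.single i 1 + t • Pi.single j 1 : Fin n → F₀) k)) =
      Pi.single i 1 + ι t • Pi.single j 1 := by
  funext k
  simp only [Pi.add_apply, Pi.smul_apply, smul_eq_mul, map_add, map_mul, Pi.single_apply]
  split_ifs <;> simp

/-- a semilinear map normalising the rational symplectic group is a scalar and its field
automorphism fixes the subfield -/
theorem rigid_SpG (ι : F₀ →+* F) (hn : 3 ≤ n) (h : GL (Fin n) F) (ρ : RingAut F)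
    (H : ∀ s ∈ SpG (F₀ := F₀) r, ∃ ζ : F,
      h.val * (s.val.map ι).map ρ = ζ • (s.val.map ι * h.val)) :
    (∀ t, ρ (ι t) = ι t) ∧ ∃ c : F, h.val = c • (1 : Matrix (Fin n) (Fin n) F) := by
  have hline : ∀ i j : Fin n, i ≠ j → ∀ t ∈ Set.range ι, ∃ c : F,
      h.val *ᵥ (Pi.single i 1 + (ρ : F →+* F) t • Pi.single j 1) =
        c • (Pi.single i 1 + t • Pi.single j 1) := by
    rintro i j hij _ ⟨t, rfl⟩
    obtain ⟨ζ, hζ⟩ := H _ (fSp_mem r (sv r (Pi.single i 1 + t • Pi.single j 1)))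
    have e : (fSp r (sv r (Pi.single i 1 + t • Pi.single j 1 : Fin n → F₀))).val =
        tv (Pi.single i 1 + t • Pi.single j 1 : Fin n → F₀)
          ((A1 (F := F₀) r).val *ᵥ (Pi.single i 1 + t • Pi.single j 1)) := subSp_sv r _
    rw [e, tv_map, show ∀ M : Matrix (Fin n) (Fin n) F, M.map (ρ : F → F) =
      M.map ((ρ : F →+* F) : F → F) from fun _ => rfl, tv_map] at hζ
    have hne : (fun k => (ρ : F →+* F) ((fun k => ι (((A1 (F := F₀) r).val *ᵥ
        (Pi.single i 1 + t • Pi.single j 1 : Fin n → F₀)) k)) k)) ≠ 0 := by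
      intro h0
      apply J'_mulVec_ne_zero r _ (single_add_ne_zero i j hij t)
      funext k
      have := congrFun h0 k
      rw [Pi.zero_apply] at this ⊢
      exact (map_eq_zero ι).1 ((map_eq_zero (ρ : F →+* F)).1 this)
    obtain ⟨c, hc⟩ := tv_center hn h.val ⟨h, rfl⟩ _ _ _ _ hne ζ hζ
    have e1 : (fun k => (ρ : F →+* F) (ι ((Pi.single i 1 + t • Pi.single j 1 : Fin n → F₀) k))) =
        Pi.single i 1 + (ρ : F →+* F) (ι t) • Pi.single j 1 :=
      map_single_add' ((ρ : F →+* F).comp ι) i j t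
    rw [e1, map_single_add' ι i j t] at hc
    exact ⟨c, hc⟩
  obtain ⟨hρ, c, hc⟩ := scalar_of_lines (by omega) h.val ⟨h, rfl⟩ (ρ : F →+* F) (Set.range ι)
    ⟨0, map_zero ι⟩ ⟨1, map_one ι⟩ hline
  exact ⟨fun t => hρ (ι t) ⟨t, rfl⟩, c, hc⟩

/-! ### normal subgroups of odd order modulo scalars -/

theorem J_pow_odd (k : ℕ) (hk : Odd k) :
    (Matrix.J (Fin m) F₀) ^ k = Matrix.J (Fin m) F₀ ∨
      (Matrix.J (Fin m) F₀) ^ k = -Matrix.J (Fin m) F₀ := by
  obtain ⟨j, rfl⟩ := hk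
  rw [pow_succ, pow_mul, pow_two, Matrix.J_squared]
  rcases neg_one_pow_eq_or (Matrix (Fin m ⊕ Fin m) (Fin m ⊕ Fin m) F₀) j with h | h
  · left
    rw [h, Matrix.one_mul]
  · right
    rw [h, Matrix.neg_mul, Matrix.one_mul]

theorem core_SpG [Finite F₀] (h2 : (2 : F₀) ≠ 0) (hm : 2 ≤ m)
    (N : Subgroup (GL (Fin n) F₀)) (hN : N ≤ SpG r)
    (hnorm : ∀ t ∈ SpG (F₀ := F₀) r, ∀ y ∈ N, t * y * t⁻¹ ∈ N)
    (hodd : ∀ y ∈ N, ∃ k, Odd k ∧ y ^ k ∈ Subgroup.center (GL (Fin n) F₀)) :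
    N ≤ Subgroup.center (GL (Fin n) F₀) := by
  classical
  have : Fintype F₀ := Fintype.ofFinite F₀
  have hnormal : (N.comap (fSp (F₀ := F₀) r)).Normal := by
    constructor
    intro s hs t
    rw [Subgroup.mem_comap] at hs ⊢
    rw [map_mul, map_mul, map_inv]
    exact hnorm _ (fSp_mem r t) _ hs
  rcases Cfsg.Agent.Lib.Helper8.AutSp.normal_dichotomy (by omega) (N.comap (fSp (F₀ := F₀) r))
    with hcen | hcomm
  · intro y hy
    obtain ⟨s, rfl⟩ := hN hy
    obtain ⟨a, ha⟩ := Cfsg.Agent.Lib.H7AutPSp.center_scalar s (hcen hy)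
    rw [Matrix.GeneralLinearGroup.mem_center_iff_val_mem_range_scalar]
    refine ⟨a, ?_⟩
    rw [fSp_val, ha]
    ext i j
    rw [Matrix.submatrix_apply, Matrix.smul_apply, Matrix.one_apply, Matrix.scalar_apply,
      Matrix.diagonal_apply]
    simp only [r.injective.eq_iff]
    split_ifs <;> simp
  · exfalso
    have hcard3 : 3 ≤ Fintype.card F₀ := by
      have h3 : 2 < Fintype.card F₀ := by
        rw [Fintype.two_lt_card_iff]
        refine ⟨0, 1, -1, zero_ne_one, ?_, ?_⟩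
        · intro h
          have : (1 : F₀) = 0 := by rw [← neg_eq_zero]; exact h.symm
          exact one_ne_zero this
        · intro h
          apply h2
          have : (1 : F₀) + 1 = 0 := by nth_rewrite 1 [h]; exact neg_add_cancel 1
          rw [← this]; norm_num
      omega
    have hperf : commutator ↥(Matrix.symplecticGroup (Fin m) F₀) = ⊤ := by
      apply Cfsg.Agent.S0269.result
      by_cases h3 : 3 ≤ m
      · exact Or.inl h3
      · exact Or.inr (Or.inl ⟨by omega, hcard3⟩)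
    have hJN : fSp r (Cfsg.Agent.Lib.Helper8.AutSp.sJ m F₀) ∈ N := by
      have : Cfsg.Agent.Lib.Helper8.AutSp.sJ m F₀ ∈ N.comap (fSp (F₀ := F₀) r) :=
        hcomm (by rw [hperf]; trivial)
      exact this
    obtain ⟨k, hk, hkc⟩ := hodd _ hJN
    rw [← map_pow, Matrix.GeneralLinearGroup.mem_center_iff_val_mem_range_scalar] at hkc
    obtain ⟨c, hc⟩ := hkc
    have hm1 : 1 ≤ m := by omega
    have e := congrFun (congrFun hc (r.symm (Sum.inr ⟨0, hm1⟩))) (r.symm (Sum.inl ⟨0, hm1⟩))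
    rw [fSp_val, Matrix.submatrix_apply, Equiv.apply_symm_apply, Equiv.apply_symm_apply,
      Matrix.scalar_apply, Matrix.diagonal_apply_ne _ (by
        intro h'
        have := r.symm.injective h'
        simp at this)] at e
    have hval : ((Cfsg.Agent.Lib.Helper8.AutSp.sJ m F₀) ^ k).val = (Matrix.J (Fin m) F₀) ^ k := by
      rw [SubmonoidClass.coe_pow]
      rfl
    have hJ1 : Matrix.J (Fin m) F₀ (Sum.inr ⟨0, hm1⟩) (Sum.inl ⟨0, hm1⟩) = 1 :=
      Cfsg.Agent.Lib.H7AutPSp.J_entry hm1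
    rw [hval] at e
    rcases J_pow_odd (F₀ := F₀) (m := m) k hk with h | h
    · rw [h, hJ1] at e
      exact one_ne_zero e.symm
    · rw [h, Matrix.neg_apply, hJ1] at e
      exact one_ne_zero (neg_eq_zero.1 e.symm)

end Cfsg.Agent.Lib.Helper5.BalSpU
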