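import Cfsg.Agent.Lib.Helper5.BalSpU.Frame
import Cfsg.Agent.Lib.Helper8.BalL.UA

/-!
# Involutions of symplectic type of `PSU_n`: trivial odd core (helper5)

`x = DhU g * PhU τ` (`τ` the `q`-Frobenius) an involution whose Gram matrix `τ(P)ᵀ P` is
skew-symmetric: the fixed points contain `PSp_n(F₀)` over the fixed field `F₀` of `τ`, and helper7's
frame theorem applies.
-/

set_option autoImplicit false

namespace Cfsg.Agent.Lib.Helper5.BalSpU

open Matrix Cfsg Cfsg.Agent.AutPSLCount Cfsg.Agent.Lib.Helper8.BalL Cfsg.Agent.Lib.Helper8.GrInv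
open Cfsg.Agent.Lib.Helper5.BalSp Cfsg.Agent.Lib.H7AutPSU Cfsg.Agent.Lib.H7BalU
open Cfsg.Agent.Lib.H7AutPSL Cfsg.Agent.Lib.H7AutPSp

universe u v

variable {F₀ : Type u} [Field F₀] {F : Type v} [Field F] {n : ℕ}

local notation "sc" => Matrix.GeneralLinearGroup.scalar (Fin n)
local notation "gm" => Matrix.GeneralLinearGroup.map

theorem map_map_fix (τ : RingAut F) (ι : F₀ →+* F) (hιτ : ∀ s, τ (ι s) = ι s)
    (A : Matrix (Fin n) (Fin n) F₀) : (A.map ι).map τ = A.map ι := by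
  ext i j
  exact hιτ (A i j)

theorem gm_gm_fix (τ : RingAut F) (ι : F₀ →+* F) (hιτ : ∀ s, τ (ι s) = ι s)
    (A : GL (Fin n) F₀) : gm (τ : F →+* F) (gm ι A) = gm ι A := by
  apply Units.ext
  exact map_map_fix τ ι hιτ A.val

theorem map_mul' {R S : Type*} [CommRing R] [CommRing S] (f : R →+* S)
    (A B : Matrix (Fin n) (Fin n) R) : (A * B).map f = A.map f * B.map f :=
  Matrix.map_mul

theorem map_transpose' {R S : Type*} (f : R → S) (A : Matrix (Fin n) (Fin n) R) :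
    (Aᵀ).map f = (A.map f)ᵀ := by
  ext i j
  rfl

/-- the main theorem, over an abstract copy of the fixed field -/
theorem coreTrivialU_skew_aux [Finite F₀] [Fintype F] {q : ℕ}
    (hF : Fintype.card F = q ^ 2) (hn : 3 ≤ n) (hs : ¬ (n = 3 ∧ q = 2))
    (hfac : FacU n F q) (hZ : Subgroup.center (PSUn n F q) = ⊥) (h2 : (2 : F) ≠ 0)
    (τ : RingAut F) (hτ : ∀ t, τ t = t ^ q) (hτ2 : τ ^ 2 = 1) (hτ1 : τ ≠ 1)
    (ι : F₀ →+* F) (hιτ : ∀ s, τ (ι s) = ι s) (hι : ∀ t : F, τ t = t → ∃ s, ι s = t)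
    (g : ↥(Cfsg.GU n F q)) (l : Fˣ) (P : GL (Fin n) F)
    (hP : sc l * g.1 * gm (τ : F →+* F) P = P)
    (hskew : ((P.val.map τ)ᵀ * P.val)ᵀ = -((P.val.map τ)ᵀ * P.val))
    (hx2 : (DhU g * PhU τ : MulAut (PSUn n F q)) ^ 2 = 1) :
    CoreTrivialU (DhU g * PhU τ : MulAut (PSUn n F q)) 2 := by
  classical
  have hττ := aut_sq_apply τ hτ2
  have hιinj : Function.Injective ι := ι.injective
  have h2₀ : (2 : F₀) ≠ 0 := by
    intro h
    apply h2
    have := congrArg ι h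
    rwa [map_ofNat, map_zero] at this
  -- the Gram matrix
  obtain ⟨G, hG⟩ : ∃ G : Matrix (Fin n) (Fin n) F, G = (P.val.map τ)ᵀ * P.val := ⟨_, rfl⟩
  rw [← hG] at hskew
  have hGunit : IsUnit G := by
    rw [hG]
    have h1 : IsUnit ((gm (τ : F →+* F) P).val)ᵀ := by
      rw [Matrix.isUnit_iff_isUnit_det, Matrix.det_transpose]
      exact (Matrix.isUnit_iff_isUnit_det _).1 ⟨_, rfl⟩
    exact h1.mul ⟨P, rfl⟩
  have hGτ : ∀ i j, τ (G i j) = -G i j := by
    intro i j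
    have h1 : τ (G i j) = G j i := by
      rw [hG, Matrix.mul_apply, Matrix.mul_apply, map_sum]
      apply Finset.sum_congr rfl
      intro k _
      rw [map_mul, Matrix.transpose_apply, Matrix.transpose_apply, Matrix.map_apply,
        Matrix.map_apply, hττ, mul_comm]
    have h3 := congrFun (congrFun hskew i) j
    rw [Matrix.transpose_apply, Matrix.neg_apply] at h3
    rw [h1, h3]
  obtain ⟨ε, hε0, hε⟩ := exists_skew τ hτ2 hτ1
  have hετ : τ ε = -ε := eq_neg_of_add_eq_zero_right hε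
  have hfix : ∀ i j, τ (ε⁻¹ * G i j) = ε⁻¹ * G i j := by
    intro i j
    rw [map_mul, map_inv₀, hετ, hGτ]
    field_simp
  choose G₀f hG₀f using fun i j => hι _ (hfix i j)
  obtain ⟨G₀, hG₀def⟩ : ∃ G₀ : Matrix (Fin n) (Fin n) F₀, G₀ = Matrix.of G₀f := ⟨_, rfl⟩
  have hG₀ : G₀.map ι = ε⁻¹ • G := by
    ext i j
    rw [Matrix.map_apply, hG₀def, Matrix.of_apply, hG₀f, Matrix.smul_apply, smul_eq_mul]
  have hGG₀ : G = ε • G₀.map ι := by
    rw [hG₀, smul_smul, mul_inv_cancel₀ hε0, one_smul]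
  have hG₀T : G₀ᵀ = -G₀ := by
    ext i j
    apply hιinj
    have e1 := congrFun (congrFun hG₀ j) i
    have e2 := congrFun (congrFun hG₀ i) j
    have h3 := congrFun (congrFun hskew i) j
    rw [Matrix.transpose_apply, Matrix.neg_apply] at h3
    rw [Matrix.map_apply, Matrix.smul_apply, smul_eq_mul] at e1 e2
    rw [Matrix.transpose_apply, Matrix.neg_apply, map_neg, e1, e2, h3]
    ring
  have hG₀det : G₀.det ≠ 0 := by
    intro h0
    have h1 : (G₀.map ι).det = 0 := by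
      rw [← RingHom.mapMatrix_apply, ← RingHom.map_det, h0, map_zero]
    rw [hG₀, Matrix.det_smul] at h1
    have h3 : G.det ≠ 0 := ((Matrix.isUnit_iff_isUnit_det G).1 hGunit).ne_zero
    rcases mul_eq_zero.1 h1 with h | h
    · exact inv_ne_zero hε0 (pow_eq_zero_iff (by simp; omega) |>.1 h)
    · exact h3 h
  -- `n` is even
  rcases Nat.even_or_odd n with he | ho
  swap
  · exact (not_skew_of_odd h2₀ ho (Matrix.GeneralLinearGroup.mkOfDetNeZero G₀ hG₀det)
      hG₀T).elim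
  obtain ⟨m, hm⟩ := he
  obtain ⟨r⟩ : Nonempty (Fin n ≃ Fin m ⊕ Fin m) := ⟨(finCongr hm).trans finSumFinEquiv.symm⟩
  have hm2 : 2 ≤ m := by omega
  have hm1 : 1 ≤ m := by omega
  -- the normal form
  obtain ⟨K, hKdef⟩ : ∃ K : Matrix (Fin m ⊕ Fin m) (Fin m ⊕ Fin m) F₀,
      K = G₀.submatrix r.symm r.symm := ⟨_, rfl⟩
  have hK : Kᵀ = -K := by
    rw [hKdef, Matrix.transpose_submatrix, hG₀T, Matrix.submatrix_neg]
    rfl
  have hdiag₀ : ∀ j, G₀ j j = 0 := by
    intro j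
    have h1 := congrFun (congrFun hG₀T j) j
    rw [Matrix.transpose_apply, Matrix.neg_apply] at h1
    have h3 : (2 : F₀) * G₀ j j = 0 := by linear_combination h1
    rcases mul_eq_zero.1 h3 with h | h
    · exact absurd h h2₀
    · exact h
  have hdiag : ∀ i, K i i = 0 := fun i => by rw [hKdef]; exact hdiag₀ (r.symm i)
  have hdetK : K.det ≠ 0 := by
    rw [hKdef, Matrix.det_submatrix_equiv_self]
    exact hG₀det
  obtain ⟨Q, hQu, hQ⟩ := alt_congr_J m K hK hdiag hdetK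
  have hG₀K : G₀ = K.submatrix r r := by
    rw [hKdef, Matrix.submatrix_submatrix]
    ext i j
    simp
  obtain ⟨A₀, hA₀def⟩ : ∃ A₀ : GL (Fin n) F₀, A₀ = subGL r hQu.unit := ⟨_, rfl⟩
  have hA₀ : A₀.valᵀ * G₀ * A₀.val = (A1 (F := F₀) r).val := by
    rw [hA₀def, subGL_val, Matrix.transpose_submatrix, hG₀K, A1_val]
    show (Qᵀ.submatrix r r) * K.submatrix r r * Q.submatrix r r = _
    rw [Matrix.submatrix_mul_equiv, Matrix.submatrix_mul_equiv, hQ]
  -- the new frame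
  obtain ⟨P', hP'def⟩ : ∃ P' : GL (Fin n) F, P' = P * gm ι A₀ := ⟨_, rfl⟩
  have hP'val : P'.val = P.val * A₀.val.map ι := by
    rw [hP'def, Units.val_mul]
    rfl
  have hGram : (P'.val.map τ)ᵀ * P'.val = ε • (A1 (F := F₀) r).val.map ι := by
    have e1 : P'.val.map τ = P.val.map τ * A₀.val.map ι := by
      rw [hP'val]
      have := map_mul' (τ : F →+* F) P.val (A₀.val.map ι)
      rw [show (A₀.val.map ι).map (τ : F →+* F) = A₀.val.map ι from map_map_fix τ ι hιτ A₀.val]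
        at this
      exact this
    rw [e1, hP'val, Matrix.transpose_mul]
    calc (A₀.val.map ι)ᵀ * (P.val.map τ)ᵀ * (P.val * A₀.val.map ι)
        = (A₀.val.map ι)ᵀ * ((P.val.map τ)ᵀ * P.val) * A₀.val.map ι := by
          simp only [Matrix.mul_assoc]
      _ = ε • ((A₀.val.map ι)ᵀ * G₀.map ι * A₀.val.map ι) := by
          rw [← hG, hGG₀, Matrix.mul_smul, Matrix.smul_mul]
      _ = ε • (A1 (F := F₀) r).val.map ι := by
          rw [← map_transpose', ← map_mul' ι, ← map_mul' ι, hA₀]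
  have hP' : sc l * g.1 * gm (τ : F →+* F) P' = P' := by
    rw [hP'def, map_mul, gm_gm_fix τ ι hιτ, ← mul_assoc, hP]
  -- an entry of the form matrix
  have hJ1 : (A1 (F := F₀) r).val (r.symm (Sum.inr ⟨0, hm1⟩)) (r.symm (Sum.inl ⟨0, hm1⟩)) = 1 := by
    rw [A1_val, Matrix.submatrix_apply, Equiv.apply_symm_apply, Equiv.apply_symm_apply]
    exact J_entry hm1
  apply frame_core_trivial hF hn hs hfac hZ τ hτ hτ2 hτ1 ι hιτ hι P' (SpG r) (SpG_det r) ?_ g l hP'
    hx2 ?_ (rigid_SpG r ι hn) (core_SpG r h2₀ hm2)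
  · -- isometries
    intro s hs'
    rw [hGram, Matrix.mul_smul, Matrix.smul_mul, ← map_transpose', ← map_mul' ι, ← map_mul' ι,
      form_of_mem_SpG r s hs']
  · -- similitudes
    rintro m₀ ⟨μ, hμ⟩ s hs'
    rw [hGram, Matrix.mul_smul, Matrix.smul_mul, ← map_transpose', ← map_mul' ι, ← map_mul' ι,
      smul_smul, mul_comm μ ε, ← smul_smul] at hμ
    have hμ' : (m₀.valᵀ * (A1 (F := F₀) r).val * m₀.val).map ι =
        μ • (A1 (F := F₀) r).val.map ι := by
      have := congrArg (fun M => ε⁻¹ • M) hμ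
      simp only [smul_smul, ← mul_assoc, inv_mul_cancel₀ hε0, one_smul, one_mul] at this
      exact this
    obtain ⟨μ₀, hμ₀def⟩ : ∃ μ₀ : F₀, μ₀ = (m₀.valᵀ * (A1 (F := F₀) r).val * m₀.val)
      (r.symm (Sum.inr ⟨0, hm1⟩)) (r.symm (Sum.inl ⟨0, hm1⟩)) := ⟨_, rfl⟩
    have hμι : ι μ₀ = μ := by
      have := congrFun (congrFun hμ' (r.symm (Sum.inr ⟨0, hm1⟩))) (r.symm (Sum.inl ⟨0, hm1⟩))
      rw [Matrix.map_apply, Matrix.smul_apply, Matrix.map_apply, hJ1, map_one, smul_eq_mul,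
        mul_one] at this
      rw [hμ₀def]
      exact this
    have hX : m₀.valᵀ * (A1 (F := F₀) r).val * m₀.val = μ₀ • (A1 (F := F₀) r).val := by
      ext i j
      apply hιinj
      have := congrFun (congrFun hμ' i) j
      rw [Matrix.map_apply, Matrix.smul_apply, Matrix.map_apply, smul_eq_mul] at this
      rw [this, Matrix.smul_apply, smul_eq_mul, map_mul, hμι]
    have hμ₀ : μ₀ ≠ 0 := by
      intro h0
      rw [h0, zero_smul] at hX
      have h1 : m₀⁻¹.valᵀ * (m₀.valᵀ * (A1 (F := F₀) r).val * m₀.val) * m₀⁻¹.val =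
          (A1 (F := F₀) r).val := by
        have e1 : m₀.val * m₀⁻¹.val = 1 := by
          rw [← Units.val_mul, mul_inv_cancel, Units.val_one]
        have e2 : m₀⁻¹.valᵀ * m₀.valᵀ = 1 := by
          rw [← Matrix.transpose_mul, e1, Matrix.transpose_one]
        calc m₀⁻¹.valᵀ * (m₀.valᵀ * (A1 (F := F₀) r).val * m₀.val) * m₀⁻¹.val
            = (m₀⁻¹.valᵀ * m₀.valᵀ) * (A1 (F := F₀) r).val * (m₀.val * m₀⁻¹.val) := by
              simp only [Matrix.mul_assoc]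
          _ = (A1 (F := F₀) r).val := by rw [e1, e2, Matrix.one_mul, Matrix.mul_one]
      rw [hX, Matrix.mul_zero, Matrix.zero_mul] at h1
      have := congrFun (congrFun h1 (r.symm (Sum.inr ⟨0, hm1⟩))) (r.symm (Sum.inl ⟨0, hm1⟩))
      rw [hJ1, Matrix.zero_apply] at this
      exact zero_ne_one this
    exact sim_normalizes r m₀ μ₀ hμ₀ hX s hs'

/-- **involutions of symplectic type of `PSU_n`** (`n ≥ 3`, odd characteristic) have trivial odd
core -/
theorem coreTrivialU_skew [Fintype F] {q : ℕ}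
    (hF : Fintype.card F = q ^ 2) (hn : 3 ≤ n) (hs : ¬ (n = 3 ∧ q = 2))
    (hfac : FacU n F q) (hZ : Subgroup.center (PSUn n F q) = ⊥) (h2 : (2 : F) ≠ 0)
    (τ : RingAut F) (hτ : ∀ t, τ t = t ^ q) (hτ2 : τ ^ 2 = 1) (hτ1 : τ ≠ 1)
    (g : ↥(Cfsg.GU n F q)) (l : Fˣ) (P : GL (Fin n) F)
    (hP : sc l * g.1 * gm (τ : F →+* F) P = P)
    (hskew : ((P.val.map τ)ᵀ * P.val)ᵀ = -((P.val.map τ)ᵀ * P.val))
    (hx2 : (DhU g * PhU τ : MulAut (PSUn n F q)) ^ 2 = 1) :
    CoreTrivialU (DhU g * PhU τ : MulAut (PSUn n F q)) 2 :=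
  coreTrivialU_skew_aux hF hn hs hfac hZ h2 τ hτ hτ2 hτ1
    (FixedPoints.subfield (Subgroup.zpowers τ) F).subtype
    (fun s => (mem_fixed_iff τ s.1).1 s.2)
    (fun t ht => ⟨⟨t, (mem_fixed_iff τ t).2 ht⟩, rfl⟩) g l P hP hskew hx2

end Cfsg.Agent.Lib.Helper5.BalSpU
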